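import Cfsg.Agent.PLocal.GlaubermanThompson
import Cfsg.Agent.OddOrder.BG3.KernelNilpotent
import Cfsg.Agent.SolvCrit.ZJBasic
import Mathlib

/-!
# Thompson's theorem: a fixed-point-free automorphism of prime order forces nilpotency

`isSolvable_of_fpf`, `isNilpotent_of_fpf`.
-/

set_option autoImplicit false
set_option linter.style.haveILetI false
set_option linter.unusedSectionVars false

namespace CfsgLib.ThompsonFpf

open Subgroup

universe u

variable {G : Type u} [Group G] [Finite G] {p : ℕ} [hp : Fact p.Prime]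

/-- An invariant subgroup inherits the automorphism. -/
def restr (φ : G ≃* G) (H : Subgroup G) (h : H.map (φ : G →* G) = H) : H ≃* H :=
  (φ.subgroupMap H).trans (MulEquiv.subgroupCongr h)

theorem restr_apply (φ : G ≃* G) (H : Subgroup G) (h : H.map (φ : G →* G) = H) (x : H) :
    ((restr φ H h x : H) : G) = φ x := rfl

theorem restr_pow_eq_one {φ : G ≃* G} {H : Subgroup G} (h : H.map (φ : G →* G) = H)
    (hφp : φ ^ p = 1) : restr φ H h ^ p = 1 := by
  have key : ∀ (i : ℕ) (x : H), (((restr φ H h) ^ i) x : G) = (φ ^ i) x := by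
    intro i
    induction i with
    | zero => intro x; simp
    | succ i ih => intro x; rw [pow_succ, pow_succ, MulAut.mul_apply, MulAut.mul_apply, ih, restr_apply]
  refine MulEquiv.ext fun x => Subtype.ext ?_
  rw [key, hφp]; rfl

theorem restr_fpf {φ : G ≃* G} {H : Subgroup G} (h : H.map (φ : G →* G) = H)
    (hφ : MonoidHom.FixedPointFree (φ : G →* G)) :
    MonoidHom.FixedPointFree ((restr φ H h : H ≃* H) : H →* H) := fun x hx =>
  Subtype.ext (hφ x (congrArg Subtype.val hx))

/-- A solvable group with such an automorphism is nilpotent. -/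
theorem isNilpotent_of_solvable (φ : G ≃* G) (hφ : MonoidHom.FixedPointFree (φ : G →* G))
    (hφp : φ ^ p = 1) (hs : Group.IsSolvable G) : Group.IsNilpotent G := by
  by_cases h1 : φ = 1
  · haveI : Subsingleton G := ⟨fun x y => by
      rw [hφ x (by rw [h1]; rfl), hφ y (by rw [h1]; rfl)]⟩
    infer_instance
  have hord : orderOf φ = p := orderOf_eq_prime hφp h1
  let A : Subgroup (MulAut G) := zpowers φ
  let X := G ⋊[A.subtype] A
  haveI : Finite (MulAut G) := Finite.of_injective _ DFunLike.coe_injective
  haveI : Finite X := Finite.of_equiv _ SemidirectProduct.equivProd.symm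
  set K := (SemidirectProduct.inl : G →* X).range with hK
  set R := (SemidirectProduct.inr : A →* X).range with hR
  have hsK : Group.IsSolvable K := by
    haveI := hs
    exact Group.isSolvable_of_surjective (f := (SemidirectProduct.inl : G →* X).rangeRestrict)
      (MonoidHom.rangeRestrict_surjective _)
  have hcard : Nat.card R = p := by
    rw [← Nat.card_congr (MonoidHom.ofInjective (f := (SemidirectProduct.inr : A →* X))
      SemidirectProduct.inr_injective).toEquiv, Nat.card_zpowers, hord]
  have hn : R ≤ normalizer (K : Set X) := by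
    rw [hK, SemidirectProduct.range_inl_eq_ker_rightHom, normalizer_eq_top]
    exact le_top
  have hfix : K ⊓ centralizer (R : Set X) = ⊥ := by
    rw [eq_bot_iff]
    rintro x ⟨⟨g, rfl⟩, hx⟩
    have h2 := mem_centralizer_iff.1 hx (SemidirectProduct.inr ⟨φ, mem_zpowers φ⟩) ⟨_, rfl⟩
    have h3 : (SemidirectProduct.inl (A.subtype ⟨φ, mem_zpowers φ⟩ g) : X) = SemidirectProduct.inl g := by
      rw [SemidirectProduct.inl_aut, h2, mul_assoc, ← map_mul, mul_inv_cancel, map_one, mul_one]
    rw [mem_bot, hφ g (SemidirectProduct.inl_injective h3), map_one]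
  have := OddOrder.isNilpotent_of_prime_fpf hsK hn (by rw [hcard]; exact hp.out) hfix
  exact (Group.isNilpotent_congr (MonoidHom.ofInjective (f := (SemidirectProduct.inl : G →* X))
    SemidirectProduct.inl_injective)).2 this

theorem exists_invariant_sylow_fpf (φ : G ≃* G) (hφ : MonoidHom.FixedPointFree (φ : G →* G))
    (q : ℕ) [Fact q.Prime] : ∃ P : Sylow q G, (P : Subgroup G).map (φ : G →* G) = P := by
  let P : Sylow q G := Classical.arbitrary _
  obtain ⟨g, hg⟩ := MulAction.exists_smul_eq G P (P.mapSurjective (f := (φ : G →* G)) φ.surjective)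
  obtain ⟨x, hx⟩ := hφ.commutatorMap_surjective g⁻¹
  simp only [MonoidHom.commutatorMap_apply, MonoidHom.coe_coe, div_eq_mul_inv] at hx
  refine ⟨x⁻¹ • P, ?_⟩
  have hg' : (P : Subgroup G).map (MulAut.conj g).toMonoidHom = (P : Subgroup G).map (φ : G →* G) := by
    have := congrArg (fun S : Sylow q G => (S : Subgroup G)) hg
    simp only [Sylow.coe_subgroup_smul, Sylow.coe_mapSurjective] at this
    exact this
  rw [Sylow.coe_subgroup_smul]
  show ((P : Subgroup G).map (MulAut.conj x⁻¹).toMonoidHom).map (φ : G →* G) =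
    (P : Subgroup G).map (MulAut.conj x⁻¹).toMonoidHom
  rw [Subgroup.map_map, show (φ : G →* G).comp (MulAut.conj x⁻¹).toMonoidHom =
    (MulAut.conj (φ x⁻¹)).toMonoidHom.comp (φ : G →* G) by ext y; simp, ← Subgroup.map_map, ← hg',
    Subgroup.map_map]
  have hgx : g = φ x * x⁻¹ := by rw [← inv_inv g, ← hx, mul_inv_rev, inv_inv]
  congr 1
  ext y
  simp [hgx, map_inv, mul_assoc]

theorem isSolvable_of_fpf_aux (n : ℕ) : ∀ (G : Type u) [Group G] [Finite G], Nat.card G = n →
    ∀ φ : G ≃* G, MonoidHom.FixedPointFree (φ : G →* G) → φ ^ p = 1 → Group.IsSolvable G := by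
  induction n using Nat.strongRecOn with | ind n ih => ?_
  intro G _ _ hn φ hφ hφp
  have hsub : ∀ H : Subgroup G, H ≠ ⊤ → (h : H.map (φ : G →* G) = H) → Group.IsSolvable H := fun H hH h =>
    ih _ (hn ▸ lt_of_le_of_ne (Nat.le_of_dvd Nat.card_pos (card_subgroup_dvd_card H))
      fun e => hH (eq_top_of_card_eq H e)) H rfl _ (restr_fpf h hφ) (restr_pow_eq_one h hφp)
  by_cases hodd : ∃ q, q.Prime ∧ q ∣ Nat.card G ∧ q ≠ 2
  · obtain ⟨q, hq, hqd, hq2⟩ := hodd
    haveI : Fact q.Prime := ⟨hq⟩
    obtain ⟨Q, hQ⟩ := exists_invariant_sylow_fpf φ hφ q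
    have hQ1 : (Q : Subgroup G) ≠ ⊥ := Q.ne_bot_of_dvd_card hqd
    set Z := Cfsg.centerThompsonOf q (Q : Subgroup G) with hZ
    have hZ1 : Z ≠ ⊥ := SolvCrit.centerThompson_ne_bot Q.isPGroup' hQ1
    have hZφ : Z.map (φ : G →* G) = Z := by
      rw [hZ, SolvCrit.map_centerThompson (φ : G →* G) φ.injective, hQ]
    by_cases hZn : Z.Normal
    · have hquot : Group.IsSolvable (G ⧸ Z) := by
        have hlt : Nat.card (G ⧸ Z) < n := by
          rw [← hn, card_eq_card_quotient_mul_card_subgroup Z]
          haveI : Nontrivial Z := (nontrivial_iff_ne_bot Z).2 hZ1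
          exact lt_mul_of_one_lt_right Nat.card_pos Finite.one_lt_card
        refine ih _ hlt (G ⧸ Z) rfl (QuotientGroup.congr Z Z φ hZφ) ?_ ?_
        · intro y hy
          obtain ⟨x, rfl⟩ := QuotientGroup.mk'_surjective Z y
          have h1 : (φ x)⁻¹ * x ∈ Z := QuotientGroup.eq.1 hy
          have hinv : ∀ z : Z, φ z ∈ Z := fun z => hZφ.le (mem_map_of_mem (φ : G →* G) z.2)
          have hinj : Function.Injective (fun z : Z => (⟨(φ z)⁻¹ * z,
              Z.mul_mem (Z.inv_mem (hinv z)) z.2⟩ : Z)) := by
            intro a b hab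
            have h2 : (φ (a : G))⁻¹ * a = (φ (b : G))⁻¹ * b := congrArg Subtype.val hab
            refine Subtype.ext (mul_inv_eq_one.1 (hφ ((b : G) * (a : G)⁻¹) ?_)).symm
            show φ _ = _
            calc φ ((b : G) * (a : G)⁻¹) = φ b * ((φ (a : G))⁻¹ * a) * (a : G)⁻¹ := by
                  rw [map_mul, map_inv]; group
              _ = φ b * ((φ (b : G))⁻¹ * b) * (a : G)⁻¹ := by rw [h2]
              _ = _ := by group
          obtain ⟨z, hz⟩ := Finite.surjective_of_injective hinj ⟨_, h1⟩
          have h3 : (φ (z : G))⁻¹ * z = (φ x)⁻¹ * x := congrArg Subtype.val hz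
          have h4 : x * (z : G)⁻¹ = 1 := by
            refine hφ _ ?_
            show φ _ = _
            calc φ (x * (z : G)⁻¹) = φ x * ((φ (z : G))⁻¹ * z) * (z : G)⁻¹ := by
                  rw [map_mul, map_inv]; group
              _ = φ x * ((φ x)⁻¹ * x) * (z : G)⁻¹ := by rw [h3]
              _ = _ := by group
          rw [mul_inv_eq_one] at h4
          exact (QuotientGroup.eq_one_iff x).2 (h4 ▸ z.2)
        · have key : ∀ (i : ℕ) (x : G), ((QuotientGroup.congr Z Z φ hZφ) ^ i) (QuotientGroup.mk x) =
              QuotientGroup.mk ((φ ^ i) x) := by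
            intro i
            induction i with
            | zero => intro x; simp
            | succ i ihi =>
              intro x
              rw [pow_succ, pow_succ, MulAut.mul_apply, MulAut.mul_apply, QuotientGroup.congr_mk, ihi]
          refine MulEquiv.ext fun y => ?_
          induction y using QuotientGroup.induction_on with
          | H x => rw [key, hφp]; rfl
      haveI := hquot
      haveI : Group.IsSolvable Z := by
        haveI := (Q.isPGroup'.to_le (SolvCrit.centerThompson_le q _)).isNilpotent
        infer_instance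
      exact Group.isSolvable_of_ker_le_range Z.subtype (QuotientGroup.mk' Z)
        (by rw [QuotientGroup.ker_mk', range_subtype])
    · set N := normalizer (Z : Set G) with hN
      have hNt : N ≠ ⊤ := fun h => hZn (normalizer_eq_top_iff.1 h)
      have hNφ : N.map (φ : G →* G) = N := by
        rw [hN, map_normalizer_eq_of_bijective _ φ.bijective, hZφ]
      haveI : Group.IsNilpotent N :=
        isNilpotent_of_solvable _ (restr_fpf hNφ hφ) (restr_pow_eq_one hNφ hφp) (hsub N hNt hNφ)
      have hnpc : Cfsg.HasNormalPComplement q G :=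
        (PLocal.hasNormalPComplement_iff_normalizer_centerThompsonOf hq2 Q).2
          Transfer.hasNormalPComplement_of_isNilpotent
      set K := Cfsg.pResidual q G with hK
      have hKt : K ≠ ⊤ := fun h => Transfer.hasNormalPComplement_iff.1 hnpc (by
        rw [← hK, h, card_top]; exact hqd)
      have hKφ : K.map (φ : G →* G) = K := Transfer.map_pResidual_of_surjective (φ : G →* G) φ.surjective
      haveI := hsub K hKt hKφ
      haveI : Group.IsSolvable (G ⧸ K) := by
        haveI := (Transfer.isPGroup_quotient_pResidual (p := q) (G := G)).isNilpotent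
        infer_instance
      exact Group.isSolvable_of_ker_le_range K.subtype (QuotientGroup.mk' K)
        (by rw [QuotientGroup.ker_mk', range_subtype])
  · have h2 : IsPGroup 2 G := by
      refine IsPGroup.of_card (n := (Nat.card G).primeFactorsList.length) ?_
      refine Nat.eq_prime_pow_of_unique_prime_dvd Nat.card_pos.ne' fun {d} hd hdd => ?_
      by_contra h
      exact hodd ⟨d, hd, hdd, h⟩
    haveI : Fact (Nat.Prime 2) := ⟨Nat.prime_two⟩
    haveI := h2.isNilpotent
    infer_instance

/-- A finite group with a fixed-point-free automorphism of prime order is solvable. -/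
theorem isSolvable_of_fpf (φ : G ≃* G) (hφ : MonoidHom.FixedPointFree (φ : G →* G)) (hφp : φ ^ p = 1) :
    Group.IsSolvable G :=
  isSolvable_of_fpf_aux _ G rfl φ hφ hφp

/-- **Thompson**: a finite group with a fixed-point-free automorphism of prime order is nilpotent. -/
theorem isNilpotent_of_fpf (φ : G ≃* G) (hφ : MonoidHom.FixedPointFree (φ : G →* G)) (hφp : φ ^ p = 1) :
    Group.IsNilpotent G :=
  isNilpotent_of_solvable φ hφ hφp (isSolvable_of_fpf φ hφ hφp)

/-- Subgroup form: `K` normalised by an element of prime order with trivial centraliser in `K`. -/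
theorem isNilpotent_of_conj {X : Type u} [Group X] [Finite X] (K : Subgroup X) (r : X)
    (hr : r ∈ normalizer (K : Set X)) (hrp : r ^ p = 1)
    (hfix : K ⊓ centralizer ({r} : Set X) = ⊥) : Group.IsNilpotent K := by
  have hinv : K.map (MulAut.conj r).toMonoidHom = K := mem_normalizer_iff_map_conj_eq.1 hr
  refine isNilpotent_of_fpf (p := p) (restr (MulAut.conj r) K hinv) (fun x hx => ?_)
    (restr_pow_eq_one (φ := MulAut.conj r) hinv (by rw [← map_pow, hrp, map_one]))
  have h1 : r * (x : X) * r⁻¹ = x := congrArg Subtype.val hx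
  have h2 : (x : X) ∈ K ⊓ centralizer ({r} : Set X) :=
    mem_inf.2 ⟨x.2, mem_centralizer_singleton_iff.2 (mul_inv_eq_iff_eq_mul.1 h1).symm⟩
  rw [hfix, mem_bot] at h2
  exact Subtype.ext h2

end CfsgLib.ThompsonFpf
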